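import Mathlib.Algebra.Homology.DerivedCategory.ExactFunctor
import Mathlib.CategoryTheory.Localization.Adjunction
import Mathlib.CategoryTheory.Adjunction.Additive

/-! An adjunction of exact functors gives an adjunction of derived categories. -/

universe w₁ w₂ v₁ v₂ u₁ u₂

open CategoryTheory CategoryTheory.Limits

set_option backward.isDefEq.respectTransparency false

namespace Groth.Agent.DAdj16

variable {A : Type u₁} [Category.{v₁} A] [Abelian A] {B : Type u₂} [Category.{v₂} B] [Abelian B]
  {L : A ⥤ B} {R : B ⥤ A} (adj : L ⊣ R) [L.Additive] [R.Additive]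

/-- the adjunction on complexes -/
noncomputable def mapCx (c : ComplexShape ℤ) :
    L.mapHomologicalComplex c ⊣ R.mapHomologicalComplex c :=
  Adjunction.mkOfUnitCounit
    { unit :=
        { app := fun K => { f := fun n => adj.unit.app (K.X n), comm' := fun i j _ =>
            (adj.unit.naturality (K.d i j)).symm }
          naturality := fun K K' f => HomologicalComplex.hom_ext _ _ fun n =>
            adj.unit.naturality (f.f n) }
      counit :=
        { app := fun K => { f := fun n => adj.counit.app (K.X n), comm' := fun i j _ =>
            (adj.counit.naturality (K.d i j)).symm }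
          naturality := fun K K' f => HomologicalComplex.hom_ext _ _ fun n =>
            adj.counit.naturality (f.f n) }
      left_triangle := by
        ext K n
        simp
        exact adj.left_triangle_components (K.X n)
      right_triangle := by
        ext K n
        simp
        exact adj.right_triangle_components (K.X n) }

variable [HasDerivedCategory.{w₁} A] [HasDerivedCategory.{w₂} B]
  [PreservesFiniteLimits L] [PreservesFiniteColimits L]
  [PreservesFiniteLimits R] [PreservesFiniteColimits R]

/-- the adjunction on derived categories -/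
noncomputable def mapD : L.mapDerivedCategory ⊣ R.mapDerivedCategory := by
  letI : CatCommSq (L.mapHomologicalComplex (ComplexShape.up ℤ)) (DerivedCategory.Q (C := A))
    (DerivedCategory.Q (C := B)) L.mapDerivedCategory := ⟨L.mapDerivedCategoryFactors.symm⟩
  letI : CatCommSq (R.mapHomologicalComplex (ComplexShape.up ℤ)) (DerivedCategory.Q (C := B))
    (DerivedCategory.Q (C := A)) R.mapDerivedCategory := ⟨R.mapDerivedCategoryFactors.symm⟩
  exact (mapCx adj (ComplexShape.up ℤ)).localization DerivedCategory.Q
    (HomologicalComplex.quasiIso A (ComplexShape.up ℤ)) DerivedCategory.Q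
    (HomologicalComplex.quasiIso B (ComplexShape.up ℤ)) L.mapDerivedCategory R.mapDerivedCategory

/-- maps out of a single object move along the adjunction -/
noncomputable def homSingleEquiv {P : A} {Q : B} (e : L.obj P ≅ Q) (K : DerivedCategory B) (p : ℤ) :
    ((DerivedCategory.singleFunctor B 0).obj Q ⟶ (shiftFunctor (DerivedCategory B) p).obj K) ≃+
    ((DerivedCategory.singleFunctor A 0).obj P ⟶
      (shiftFunctor (DerivedCategory A) p).obj (R.mapDerivedCategory.obj K)) :=
  (({ Iso.homCongr (((L.mapDerivedCategorySingleFunctor 0).app P ≪≫
          (DerivedCategory.singleFunctor B 0).mapIso e).symm) (Iso.refl _) with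
      map_add' := fun f g => by simp } : _ ≃+ _).trans
    ((mapD adj).homAddEquiv _ _)).trans
    { Iso.homCongr (Iso.refl _) ((R.mapDerivedCategory.commShiftIso p).app K) with
      map_add' := fun f g => by simp }

/-- an object with the same sections is the image under the left adjoint -/
noncomputable def leftObjIso {P : A} {Q : B} (Φ : ∀ X, (L.obj P ⟶ X) ≃ (Q ⟶ X))
    (hΦ : ∀ {X Y} (f : L.obj P ⟶ X) (g : X ⟶ Y), Φ Y (f ≫ g) = Φ X f ≫ g) : L.obj P ≅ Q where
  hom := (Φ Q).symm (𝟙 Q)
  inv := Φ (L.obj P) (𝟙 _)
  hom_inv_id := (Φ _).injective (by rw [hΦ, Equiv.apply_symm_apply, Category.id_comp])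
  inv_hom_id := by rw [← hΦ, Category.id_comp, Equiv.apply_symm_apply]

end Groth.Agent.DAdj16
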